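import Groth.Agent.EtDepth.K552.LocUnit
import Groth.Agent.CohtopB.ExactDerAdj
import Groth.Agent.Sga2lef.H134.DualOpen
import Groth.Agent.Sga4h.BidBddEt
import Groth.Agent.Sga4h.BidGlobU
import Groth.Agent.Sga4h.TensorUnit
import Groth.Prelude.Def_EtDl

/-!
# Duality and direct images along an open immersion

`κ : W ⟶ A` an open immersion (étale monomorphism), `D` the duality `stdDual`.
* `orth_D`: `Hom(Z[-n], D (κ_! M)) = 0` for `κ^* Z = 0`;



-/

set_option autoImplicit false
universe u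

open CategoryTheory CategoryTheory.Limits AlgebraicGeometry Opposite

attribute [local instance 5000] CategoryTheory.Abelian.toPreadditive
  CategoryTheory.Preadditive.preadditiveHasZeroMorphisms

namespace K552.OrthD

attribute [local instance] HasDerivedCategory.standard
open scoped Groth.Agent.Sga4h.ModInst
open Groth.Agent Groth.Agent.Sga4h Groth.Agent.Sga4h.Refl Groth.Agent.Sga4h.ModRestr
  Groth.Agent.Sga4h.BidRed538Main

/-- An acyclic complex is zero in the derived category. -/
theorem isZero_Q {C : Type*} [Category* C] [Abelian C] [HasDerivedCategory C] {K : CochainComplex C ℤ}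
    (h : ∀ q, IsZero (K.homology q)) : IsZero (DerivedCategory.Q.obj K) := by
  rw [PerfA.ExactD.isZero_iff]
  intro n
  exact (h n).of_iso ((DerivedCategory.homologyFunctorFactors _ n).app K)

/-- Homology of an acyclic complex. -/
theorem isZero_homology_of_acyclic {C : Type*} [Category* C] [Abelian C] {K : CochainComplex C ℤ}
    (h : K.Acyclic) (q : ℤ) : IsZero (K.homology q) := by
  have := h q
  rwa [HomologicalComplex.exactAt_iff_isZero_homology] at this

section Abs

variable {C C' : Type*} [Category* C] [Abelian C] [Category* C'] [Abelian C']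
    [HasDerivedCategory.{u+2} C] [HasDerivedCategory.{u+2} C']

omit [HasDerivedCategory.{u+2} C] [HasDerivedCategory.{u+2} C'] in
/-- The image of a single complex of an object with zero image. -/
theorem isZero_map_single (R : C ⥤ C') [R.Additive] (P : C) (n : ℤ) (h : IsZero (R.obj P)) :
    IsZero ((R.mapHomologicalComplex (ComplexShape.up ℤ)).obj ((CochainComplex.singleFunctor C n).obj P)) := by
  have s : (R.mapHomologicalComplex (ComplexShape.up ℤ)).obj ((CochainComplex.singleFunctor C n).obj P) ≅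
      (CochainComplex.singleFunctor C' n).obj (R.obj P) :=
    (HomologicalComplex.singleMapHomologicalComplex R (ComplexShape.up ℤ) n).app P
  exact (Functor.map_isZero (CochainComplex.singleFunctor C' n) h).of_iso s

variable {T : C ⥤ C ⥤ C} [T.Additive] [∀ X, (T.obj X).Additive]
    [∀ (K₁ K₂ : CochainComplex C ℤ), CochainComplex.HasMapBifunctor K₁ K₂ T]
    [∀ E : CochainComplex C ℤ, (T.map₂CochainComplex.flip.obj E).IsLeftAdjoint]
    {T' : C' ⥤ C' ⥤ C'} [T'.Additive] [∀ X, (T'.obj X).Additive]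
    [∀ (K₁ K₂ : CochainComplex C' ℤ), CochainComplex.HasMapBifunctor K₁ K₂ T']
    [∀ E : CochainComplex C' ℤ, (T'.map₂CochainComplex.flip.obj E).IsLeftAdjoint]

omit [HasDerivedCategory.{u+2} C'] in
/-- The dual of a zero complex. -/
theorem isZero_Q_D [∀ (J : Type), HasColimitsOfShape (Discrete J) C]
    [∀ (J : Type), (colim : (Discrete J ⥤ C) ⥤ C).PreservesMonomorphisms] (A : DualData T) (K : CochainComplex C ℤ) (h : IsZero K) :
    IsZero (DerivedCategory.Q.obj (A.D K)) := by
  refine isZero_Q fun q => isZero_homology_of_acyclic (A.acyclic_D fun i => ?_) q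
  rw [HomologicalComplex.exactAt_iff_isZero_homology]
  rw [IsZero.iff_id_eq_zero, ← HomologicalComplex.homologyMap_id, h.eq_of_src (𝟙 K) 0,
    HomologicalComplex.homologyMap_zero]

/-- The comparison map in the derived category. -/
theorem nonempty_cmp {R : C ⥤ C'} {_ : R.Additive}
    (τ : R ⋙ T' ⋙ (Functor.whiskeringLeft _ _ _).obj R ⟶ T ⋙ (Functor.whiskeringRight _ _ _).obj R)
    (A : DualData T) (A' : DualData T') {J : CochainComplex C ℤ} {J' : CochainComplex C' ℤ} (hJ : A.J = J)
    (hJ' : A'.J = J') (j : (R.mapHomologicalComplex (ComplexShape.up ℤ)).obj J ⟶ J')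
    (E : CochainComplex C ℤ) (h : QuasiIso (BidCmp.cmp (R := R) τ j E)) (F : CochainComplex C ℤ ⥤ CochainComplex C' ℤ)
    (hF : R.mapHomologicalComplex (ComplexShape.up ℤ) = F) :
    Nonempty (DerivedCategory.Q.obj (F.obj (A.D E)) ≅ DerivedCategory.Q.obj (A'.D (F.obj E))) := by
  subst hF hJ hJ'
  exact ⟨@asIso _ _ _ _ (DerivedCategory.Q.map (BidCmp.cmp (R := R) τ j E))
    ((DerivedCategory.isIso_Q_map_iff_quasiIso _ _).2 h)⟩

end Abs

variable {Λ : Type (u + 1)} [CommRing Λ] {W A : Scheme.{u}} (κ : W ⟶ A) [Etale κ]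

/-- Restriction of complexes. -/
noncomputable abbrev resC : CochainComplex (EtModW.Mod Λ A) ℤ ⥤ CochainComplex (EtModW.Mod Λ W) ℤ :=
  (res Λ κ).mapHomologicalComplex (ComplexShape.up ℤ)

/-- Extension by zero of complexes. -/
noncomputable abbrev extC : CochainComplex (EtModW.Mod Λ W) ℤ ⥤ CochainComplex (EtModW.Mod Λ A) ℤ :=
  (ext Λ κ).mapHomologicalComplex (ComplexShape.up ℤ)

/-- The dual commutes with restriction. -/
theorem nonempty_res_D (K : CochainComplex (EtModW.Mod Λ A) ℤ) :
    Nonempty (DerivedCategory.Q.obj ((resC κ).obj ((stdDual Λ A).D K)) ≅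
      DerivedCategory.Q.obj ((stdDual Λ W).D ((resC κ).obj K))) := by
  obtain ⟨f, hf⟩ := Sga2lef.H134.DualOpen.exists_alpha (Λ := Λ) κ
  have h := BidEtRefl.quasiIso_cmp' (Λ := Λ) κ (stdJ Λ A) (stdJ Λ W)
    (isKInjective_stdJ Λ A) (isKInjective_stdJ Λ W) f hf K
  exact nonempty_cmp (R := BidEtSh.resM Λ κ) (BidEtSh.tauM Λ κ) (stdDual Λ A) (stdDual Λ W) rfl rfl f K h (resC κ) rfl

/-- The dual of isomorphic objects. -/
theorem nonempty_D_iso {X : Scheme.{u}} (D : DualData (EtModD.tensorBi Λ X)) {K L : CochainComplex (EtModW.Mod Λ X) ℤ}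
    (e : DerivedCategory.Q.obj K ≅ DerivedCategory.Q.obj L) :
    Nonempty (DerivedCategory.Q.obj (D.D K) ≅ DerivedCategory.Q.obj (D.D L)) :=
  ⟨((BidGlobU.DDIso D).app (op K)).symm ≪≫ (BidGlobU.DD D).mapIso e.symm.op ≪≫ (BidGlobU.DDIso D).app (op L)⟩

/-- `Hom(Z[-n], D (κ_! M)) = 0` if `κ^* Z = 0`. -/
theorem orth_D (M : CochainComplex (EtModW.Mod Λ W) ℤ) (Z : EtModW.Mod Λ A) (hZ : IsZero ((res Λ κ).obj Z)) (n : ℤ)
    (f : (DerivedCategory.singleFunctor (EtModW.Mod Λ A) n).obj Z ⟶
      DerivedCategory.Q.obj ((stdDual Λ A).D ((extC κ).obj M))) : f = 0 := by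
  let S : CochainComplex (EtModW.Mod Λ A) ℤ := (CochainComplex.singleFunctor _ n).obj Z
  let eS : (DerivedCategory.singleFunctor (EtModW.Mod Λ A) n).obj Z ≅ DerivedCategory.Q.obj S :=
    (DerivedCategory.singleFunctorIsoCompQ _ n).app Z
  obtain ⟨e1⟩ := BidGlobU.nonempty_selfEquiv (stdDual Λ A) S ((extC κ).obj M)
  have e2 := (CohtopB.ExactDerAdj.derivedAdj (extResAdj Λ κ)).homEquiv (DerivedCategory.Q.obj M)
    (DerivedCategory.Q.obj ((stdDual Λ A).D S))
  obtain ⟨e3⟩ := nonempty_res_D κ S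
  have hz : IsZero (DerivedCategory.Q.obj ((stdDual Λ W).D ((resC κ).obj S))) :=
    isZero_Q_D (stdDual Λ W) _ (isZero_map_single (res Λ κ) Z n hZ)
  have hz' : IsZero ((res Λ κ).mapDerivedCategory.obj (DerivedCategory.Q.obj ((stdDual Λ A).D S))) :=
    hz.of_iso ((res Λ κ).mapDerivedCategoryFactors.app _ ≪≫ e3)
  let t : (ext Λ κ).mapDerivedCategory.obj (DerivedCategory.Q.obj M) ≅ DerivedCategory.Q.obj ((extC κ).obj M) :=
    (ext Λ κ).mapDerivedCategoryFactors.app M
  apply (Iso.homCongr eS (Iso.refl _)).injective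
  apply e1.injective
  apply (Iso.homCongr t.symm (Iso.refl _)).injective
  apply e2.injective
  exact hz'.eq_of_tgt _ _

end K552.OrthD
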