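import Groth.Agent.EtDepth.K552.PushDual
import Groth.Agent.Sga2lef.H134.Supp
import Groth.Agent.Sga2lef.H134.DimCl
import Groth.Agent.Sga2lef.H253.ArtinVan
import Groth.Agent.Sga2lef.H93.ModTr

/-!
# Vanishing of `Hom(Rκ_* F, Λ[q])`

`κ : W ⟶ A` an open immersion, `A` affine of finite type over an algebraically closed field `k` of characteristic zero,
`W`, `A` with biduality, `F` a constructible sheaf on `W` of étale depth `≥ n - dim cl(v)` at every point `v`:
`Hom(Rκ_* F, Λ[q]) = 0` for `q > 2N - n`.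
-/

set_option autoImplicit false
universe u

open CategoryTheory CategoryTheory.Limits AlgebraicGeometry Opposite

attribute [local instance 5000] CategoryTheory.Abelian.toPreadditive
  CategoryTheory.Preadditive.preadditiveHasZeroMorphisms

namespace K552.HomPush

attribute [local instance] HasDerivedCategory.standard
open scoped Groth.Agent.Sga4h.ModInst
open Groth.Agent Groth.Agent.Sga4h Groth.Agent.Sga4h.Refl Groth.Agent.Sga4h.ModRestr
  Groth.Agent.Sga4h.BidRed538Main K552.OrthD K552.PushDual Groth.Agent.Etrest.ModAb Groth.Agent.Sga4h.EtPts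

variable {Λ : Type (u + 1)} [CommRing Λ] {W A : Scheme.{u}} (κ : W ⟶ A)

/-- Homology of the extension by zero. -/
noncomputable def homologyExt [Etale κ] (M : CochainComplex (EtModW.Mod Λ W) ℤ) (b : ℤ) :
    (DerivedCategory.homologyFunctor _ b).obj (DerivedCategory.Q.obj ((extC κ).obj M)) ≅
      (ext Λ κ).obj (M.homology b) :=
  (DerivedCategory.homologyFunctorFactors _ b).app _ ≪≫ BidIndLoc48.homologyMapIso (ext Λ κ) M b

variable [IsOpenImmersion κ]

/-- The stalks of the extension by zero. -/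
theorem exists_of_stk (B : EtModW.Mod Λ W) (x : A) (hx : ¬ IsZero ((stk Λ x).obj ((ext Λ κ).obj B))) :
    ∃ v : W, κ v = x ∧ ¬ IsZero ((stk Λ v).obj B) := by
  rw [← Sga2lef.H253.StkSupp.mem_supp_ab_iff] at hx
  obtain ⟨v, rfl⟩ : x ∈ Set.range κ := by
    by_contra h
    exact Sga2lef.H93.ModTr.not_mem_supp_ext Λ κ B x h hx
  refine ⟨v, rfl, ?_⟩
  rw [← Sga2lef.H253.StkSupp.mem_supp_ab_iff]
  have h1 : v ∈ EtPBC.supp ((EtCoh.pull κ).obj ((ab Λ A).obj ((ext Λ κ).obj B))) := by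
    rw [EtpbcA.Artin.supp_pull]
    exact hx
  have hu : IsIso (extResAdj Λ κ).unit := isIso_extResAdj_unit Λ κ
  have hu' : IsIso ((extResAdj Λ κ).unit.app B) := NatIso.isIso_app_of_isIso _ _
  let e : (EtCoh.pull κ).obj ((ab Λ A).obj ((ext Λ κ).obj B)) ≅ (ab Λ W).obj B :=
    (pullIso Λ κ).symm.app _ ≪≫ (ab Λ W).mapIso ((ExtFree.pullIsoRes κ).app _ ≪≫
      (asIso ((extResAdj Λ κ).unit.app B)).symm)
  rwa [EtpbcA.Artin.supp_congr e] at h1

open DerivedCategory in
/-- Bound for the dual of a sheaf on an open subscheme. -/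
theorem exists_isLE_D {P : Scheme.{u}} (j : W ⟶ P) [IsOpenImmersion j] [Finite Λ] [IsNoetherian P] [IsNoetherian W]
    (hB : BidIndLoc48.Bid (stdDual Λ P)) (F : EtModW.Mod Λ W) (hF : EtModW.IsConstructible Λ F) :
    ∃ b : ℤ, (Q.obj ((stdDual Λ W).D ((CochainComplex.singleFunctor (EtModW.Mod Λ W) 0).obj F))).IsLE b := by
  have h1 : EtModW.IsConstructible Λ ((ext Λ j).obj F) := BidRed538Ext.isConstructible_ext j F hF
  obtain ⟨⟨a, b, ha, hb⟩, -⟩ := hB.dbc _ ((Dbc323.isDbc_Q_single_iff ((ext Λ j).obj F) 0).2 h1)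
  refine ⟨b, ?_⟩
  rw [isLE_iff] at hb ⊢
  intro i hi
  obtain ⟨e⟩ := Sga2lef.H134.DualOpen.nonempty_res_D_ext j F i
  exact ((res Λ j).map_isZero ((hb i hi).of_iso ((homologyFunctorFactors _ i).app _).symm)).of_iso
    ((homologyFunctorFactors _ i).app _ ≪≫ e.symm)

open DerivedCategory in
/-- The extension by zero of the dual of a constructible sheaf is in `D^b_c`. -/
theorem isDbc_ext_D {P : Scheme.{u}} (j : W ⟶ P) [IsOpenImmersion j] [Finite Λ] [IsNoetherian P] [IsNoetherian W]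
    [IsNoetherian A] (hB : BidIndLoc48.Bid (stdDual Λ P)) (F : EtModW.Mod Λ W) (hF : EtModW.IsConstructible Λ F) :
    EtModD.IsDbc (Q.obj ((extC κ).obj ((stdDual Λ W).D
      ((CochainComplex.singleFunctor (EtModW.Mod Λ W) 0).obj F)))) := by
  obtain ⟨b, hb⟩ := exists_isLE_D j hB F hF
  have ha := Sga2lef.H253.ArtinVanOf.isGE_D Λ F
  refine ⟨⟨0, b, ?_, ?_⟩, fun q => ?_⟩
  · rw [isGE_iff] at ha ⊢
    intro i hi
    exact ((ext Λ κ).map_isZero ((ha i hi).of_iso ((homologyFunctorFactors _ i).app _).symm)).of_iso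
      (homologyExt κ _ i)
  · exact isLE_ext κ _ b hb
  · exact Etcore.LCrit.isConstructible_of_iso (homologyExt κ _ q).symm (BidRed538Ext.isConstructible_ext κ _
      (Sga2lef.H134.DualOpen.isConstructible_homology_D j hB F hF q))

open DerivedCategory in
/-- **Vanishing of `Hom(Rκ_* F, Λ[q])`.** -/
theorem subsingleton_hom [Finite Λ] {k : Type u} [Field k] [IsAlgClosed k] [CharZero k]
    (SP : Sga2lef.H134.FlcPurity.StmtSP k) (FIN : Sga2lef.H134.Spread.StmtFin k) {P : Scheme.{u}}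
    [IsNoetherian P] (jA : A ⟶ P) [IsOpenImmersion jA] [IsAffine A] (f : A ⟶ Spec (CommRingCat.of k))
    [LocallyOfFiniteType f] {m : ℕ} (hm : 0 < m) (hΛ : (m : Λ) = 0) (N n : ℕ)
    (hB : BidIndLoc48.Bid (stdDual Λ P))
    (hRA : ∀ E : CochainComplex (EtModW.Mod Λ A) ℤ, EtModD.IsDbc (Q.obj E) → (stdDual Λ A).Refl E)
    (hRW : ∀ E : CochainComplex (EtModW.Mod Λ W) ℤ, EtModD.IsDbc (Q.obj E) → (stdDual Λ W).Refl E)
    (hCP : Sga2lef.H134.Supp.CPAt Λ W N) (F : EtModW.Mod Λ W) (hF : EtModW.IsConstructible Λ F)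
    (hdepth : ∀ (v : W) (d : ℕ), topologicalKrullDim (closure ({v} : Set W)) = (d : WithBot ℕ∞) →
      EtDepth.DepthAtGE W ((ab Λ W).obj F) v (n - d)) (q : ℤ) (hq : 2 * N - n < q) :
    Subsingleton (Plus.ι.obj ((EtDl.pushPlus Λ κ).obj ((Plus.singleFunctor _ 0).obj F)) ⟶
      ((singleFunctor _ 0).obj (EtModW.constMod Λ A Λ))⟦q⟧) := by
  have hNA : IsNoetherian A := Groth.Agent.CurvesA.ClosedPtSep.isNoetherian f
  have hNW : IsNoetherian W := by
    have h1 : IsLocallyNoetherian W := isLocallyNoetherian_of_isOpenImmersion κ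
    have h2 : CompactSpace W := by
      have : QuasiCompact κ := inferInstance
      exact QuasiCompact.compactSpace_of_compactSpace κ
    exact { }
  let M : CochainComplex (EtModW.Mod Λ W) ℤ := (stdDual Λ W).D ((CochainComplex.singleFunctor (EtModW.Mod Λ W) 0).obj F)
  obtain ⟨b, hb⟩ := exists_isLE_D (κ ≫ jA) hB F hF
  have hdbc := isDbc_ext_D κ (κ ≫ jA) hB F hF
  have hE := (hRW _ ((Dbc323.isDbc_Q_single_iff F 0).2 hF)).qis
  let e : Plus.ι.obj ((Plus.singleFunctor (EtModW.Mod Λ W) 0).obj F) ≅ Q.obj ((stdDual Λ W).D M) :=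
    (singleFunctorIsoCompQ (EtModW.Mod Λ W) 0).app F ≪≫
      @asIso _ _ _ _ (Q.map ((stdDual Λ W).ev ((CochainComplex.singleFunctor (EtModW.Mod Λ W) 0).obj F)))
        ((isIso_Q_map_iff_quasiIso _ _).2 hE)
  obtain ⟨eq⟩ := nonempty_hom_push κ M b hb ((Plus.singleFunctor (EtModW.Mod Λ W) 0).obj F) e (hRA _ hdbc) q
  refine @Equiv.subsingleton _ _ eq ⟨?_⟩
  have h0 : ∀ g : (singleFunctor _ 0).obj (EtModW.constMod Λ A Λ) ⟶ (Q.obj ((extC κ).obj M))⟦q⟧, g = 0 := by
    intro g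
    obtain ⟨⟨a, b', ha, hb'⟩, -⟩ := hdbc
    refine Sga2lef.H253.ArtinVan.hom_eq_zero f Λ hm hΛ (Q.obj ((extC κ).obj M)) a (2 * N - n) ?_ q hq g
    intro c u hu d hd
    have hu' : ¬ IsZero ((stk Λ u).obj ((ext Λ κ).obj (M.homology c))) := fun h =>
      hu (h.of_iso ((stk Λ u).mapIso (homologyExt κ M c)))
    obtain ⟨v, rfl, hv⟩ := exists_of_stk κ _ u hu'
    refine Sga2lef.H134.Supp.supp SP FIN (κ ≫ jA) (κ ≫ f) hm hΛ N n hB hCP F
      ((Etcore.LFinite.isConstructible_iff_ab F).1 hF) hdepth c v hv d ?_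
    rw [← hd]
    exact Sga2lef.H134.DimCl.dim_closure_preimmersion f κ v
  intro g g'
  rw [h0 g, h0 g']

end K552.HomPush
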