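import Groth.Agent.Etdl.H424.PlusAdj
import Groth.Agent.Dual.H338.PlusCompare
import Groth.Agent.PerfA.ExactD
import Groth.Agent.LoccohB.Devissage

/-!
# Objects of `D^+` which are direct images of their restrictions

`P : B ⥤ A` exact (restriction to an open subset), `P ⊣ R` with `P R ≅ 1`.
* `isIso_counit`: the counit of `P ⊣ R` on `D^+` is an isomorphism;
* `isIso_unit_of_orth`: `K ⟶ R P K` is an isomorphism if `Hom(Z[-n], K) = 0` for all `n` and all `Z` with `P Z = 0`.
-/

set_option autoImplicit false

universe w w' v v' u u'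

open CategoryTheory CategoryTheory.Limits Pretriangulated

namespace K552.LocUnit

open Groth.Agent Groth.Agent.Etdl.H424.PlusAdj

variable {A : Type u} [Category.{v} A] [Abelian A] [HasDerivedCategory.{w} A] [EnoughInjectives A]
  {B : Type u'} [Category.{v'} B] [Abelian B] [HasDerivedCategory.{w'} B] [EnoughInjectives B]
  {P : B ⥤ A} {R : A ⥤ B} [P.Additive] [R.Additive] [PreservesFiniteLimits P]

section Exact

variable (P) [PreservesFiniteColimits P]

/-- The derived functor on `D^+` of an exact functor. -/
noncomputable def exactPlus : P.rightDerivedFunctorPlus ⋙ DerivedCategory.Plus.ι ≅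
    DerivedCategory.Plus.ι ⋙ P.mapDerivedCategory :=
  Dual.H338.PlusCompare.compareIso P P.mapDerivedCategory P.mapDerivedCategoryFactorsh.inv
    (fun _ _ => inferInstance)

/-- Homology of the derived functor of an exact functor. -/
noncomputable def homologyExact (n : ℤ) :
    P.rightDerivedFunctorPlus ⋙ DerivedCategory.Plus.ι ⋙ DerivedCategory.homologyFunctor A n ≅
      DerivedCategory.Plus.ι ⋙ DerivedCategory.homologyFunctor B n ⋙ P :=
  (Functor.isoWhiskerRight (exactPlus P) (DerivedCategory.homologyFunctor A n) :) ≪≫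
    (Functor.isoWhiskerLeft DerivedCategory.Plus.ι (PerfA.ExactD.mapHomology P n) :)

/-- The derived functor of an exact functor kills what the functor kills. -/
theorem isZero_obj (K : DerivedCategory.Plus B)
    (h : ∀ n, IsZero (P.obj ((DerivedCategory.homologyFunctor B n).obj (DerivedCategory.Plus.ι.obj K)))) :
    IsZero (P.rightDerivedFunctorPlus.obj K) := by
  have h1 : IsZero (DerivedCategory.Plus.ι.obj (P.rightDerivedFunctorPlus.obj K)) := by
    rw [PerfA.ExactD.isZero_iff]
    intro n
    exact (h n).of_iso ((homologyExact P n).app K)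
  rw [IsZero.iff_id_eq_zero] at h1 ⊢
  apply DerivedCategory.Plus.ι.map_injective
  rw [Functor.map_zero, CategoryTheory.Functor.map_id]
  exact h1

end Exact

section Counit

variable (adj : P ⊣ R)

/-- The counit on bounded below homotopy categories. -/
theorem isIso_adjHo_counit (hc : ∀ M : A, IsIso (adj.counit.app M)) (K : HomotopyCategory.Plus A) :
    IsIso ((adjHo adj).counit.app K) := by
  have h1 : IsIso ((adjCx adj (.up ℤ)).counit.app K.obj.as) := by
    have : ∀ i, IsIso (((adjCx adj (.up ℤ)).counit.app K.obj.as).f i) := fun i => hc _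
    exact HomologicalComplex.Hom.isIso_of_components _
  have h2 : IsIso ((HomotopyCategory.quotient A (.up ℤ)).map ((adjCx adj (.up ℤ)).counit.app K.obj.as)) :=
    inferInstance
  have h3 : IsIso ((HomotopyCategory.Plus.ι A).map ((adjHo adj).counit.app K)) := h2
  exact isIso_of_reflects_iso _ (HomotopyCategory.Plus.ι A)

/-- **The counit of the adjunction on `D^+`.** -/
theorem isIso_counit (hc : ∀ M : A, IsIso (adj.counit.app M)) (K : DerivedCategory.Plus A) :
    IsIso ((dadj adj).counit.app K) := by
  have hPc : PreservesFiniteColimits P := by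
    have : PreservesColimitsOfSize.{0, 0} P := adj.leftAdjoint_preservesColimits
    exact PreservesColimitsOfSize.preservesFiniteColimits _
  obtain ⟨n, hn⟩ := K.property
  have hK : K.IsGE n := by
    rw [← DerivedCategory.Plus.isGE_ι_obj_iff]
    exact hn
  obtain ⟨L, -, ⟨e⟩⟩ := DerivedCategory.Plus.exists_injective_nonempty_iso K n
  rw [← NatTrans.isIso_app_iff_of_iso (dadj adj).counit e]
  let L' : HomotopyCategory.Plus A := (HomotopyCategory.Plus.quotient A).obj
    ((InjectiveObject.ι A).mapCochainComplexPlus.obj L)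
  have h1 := dadj_counit adj L'
  have h2 := isIso_adjHo_counit adj hc L'
  have h3 : IsIso (R.rightDerivedFunctorPlusUnit.app L') := inferInstance
  have hu := isIso_unit P
  have h4 : IsIso (P.rightDerivedFunctorPlusUnit.app (R.mapHomotopyCategoryPlus.obj L')) :=
    NatIso.isIso_app_of_isIso _ _
  have h5 : IsIso (P.rightDerivedFunctorPlus.map (R.rightDerivedFunctorPlusUnit.app L')) :=
    Functor.map_isIso _ _
  have h6 : IsIso (DerivedCategory.Plus.Qh.map ((adjHo adj).counit.app L')) := Functor.map_isIso _ _
  rw [← h1] at h6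
  have h7 := IsIso.of_isIso_comp_left (P.rightDerivedFunctorPlusUnit.app (R.mapHomotopyCategoryPlus.obj L'))
    (P.rightDerivedFunctorPlus.map (R.rightDerivedFunctorPlusUnit.app L') ≫
        (dadj adj).counit.app (DerivedCategory.Plus.Qh.obj L'))
  exact IsIso.of_isIso_comp_left (P.rightDerivedFunctorPlus.map (R.rightDerivedFunctorPlusUnit.app L'))
    ((dadj adj).counit.app (DerivedCategory.Plus.Qh.obj L'))

end Counit

section Orth

variable [PreservesFiniteColimits P] (adj : P ⊣ R)

include adj in
/-- `Hom(Z[-n], R N) = 0` if `P Z = 0`. -/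
theorem orth_push (N : DerivedCategory.Plus A) (Z : B) (hZ : IsZero (P.obj Z)) (n : ℤ)
    (f : (DerivedCategory.singleFunctor B n).obj Z ⟶
      DerivedCategory.Plus.ι.obj (R.rightDerivedFunctorPlus.obj N)) : f = 0 := by
  let S : DerivedCategory.Plus B := (DerivedCategory.Plus.singleFunctor B n).obj Z
  have h1 : IsZero (P.rightDerivedFunctorPlus.obj S) := by
    refine isZero_obj P S fun m => ?_
    by_cases hm : m = n
    · subst hm
      exact hZ.of_iso (P.mapIso ((DerivedCategory.singleFunctorCompHomologyFunctorIso B m).app Z))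
    · refine P.map_isZero ?_
      rcases lt_or_gt_of_ne hm with h | h
      · exact DerivedCategory.isZero_of_isGE ((DerivedCategory.singleFunctor B n).obj Z) n m h
      · exact DerivedCategory.isZero_of_isLE ((DerivedCategory.singleFunctor B n).obj Z) n m h
  let f' : S ⟶ R.rightDerivedFunctorPlus.obj N :=
    (DerivedCategory.Plus.ι (C := B)).preimage (X := S) (Y := R.rightDerivedFunctorPlus.obj N) f
  have h2 : f' = 0 := by
    apply ((dadj adj).homEquiv S N).symm.injective
    exact h1.eq_of_src _ _
  have h3 : DerivedCategory.Plus.ι.map f' = f :=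
    (DerivedCategory.Plus.ι (C := B)).map_preimage (X := S) (Y := R.rightDerivedFunctorPlus.obj N) f
  rw [← h3, h2]
  exact Functor.map_zero _ _ _

/-- A bounded below object `C` with `P H^n(C) = 0` for all `n` and `Hom(Z[-n], C) = 0` for all `n` and all `Z` with
`P Z = 0` is zero. -/
theorem isZero_of_orth (C : DerivedCategory B) (a : ℤ) [hC : C.IsGE a]
    (h1 : ∀ n, IsZero (P.obj ((DerivedCategory.homologyFunctor B n).obj C)))
    (h2 : ∀ (Z : B), IsZero (P.obj Z) → ∀ (n : ℤ) (f : (DerivedCategory.singleFunctor B n).obj Z ⟶ C), f = 0) :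
    IsZero C := by
  have key : ∀ n : ℕ, C.IsGE (a + n) := by
    intro n
    induction n with
    | zero => simpa using hC
    | succ n ih =>
      obtain ⟨T, hT, hT2, hle, hge, hi1, hi3⟩ := LoccohB.Devissage.exists_trunc C (a + n) (a + n + 1) rfl
      have hGE : T.obj₁.IsGE (a + n) := by
        rw [DerivedCategory.isGE_iff]
        intro i hi
        have := hi1 i (by lia)
        refine IsZero.of_iso ?_ (asIso ((DerivedCategory.homologyFunctor B i).map T.mor₁))
        rw [hT2]
        exact DerivedCategory.isZero_of_isGE C (a + n) i hi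
      obtain ⟨e⟩ := LoccohB.Devissage.nonempty_iso_single T.obj₁ (a + n)
      have hz : IsZero (P.obj ((DerivedCategory.homologyFunctor B (a + n)).obj T.obj₁)) := by
        have := hi1 (a + n) le_rfl
        refine (h1 (a + n)).of_iso (P.mapIso ((asIso ((DerivedCategory.homologyFunctor B (a + n)).map T.mor₁)) ≪≫
          (DerivedCategory.homologyFunctor B (a + n)).mapIso (eqToIso hT2)))
      have h3 : e.inv ≫ T.mor₁ ≫ (eqToIso hT2).hom = 0 := h2 _ hz _ _
      have h4 : T.mor₁ = 0 := by
        have h5 : T.mor₁ ≫ (eqToIso hT2).hom = 0 := by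
          rw [← cancel_epi e.inv, h3, comp_zero]
        rw [← cancel_mono (eqToIso hT2).hom, h5, zero_comp]
      rw [DerivedCategory.isGE_iff]
      intro i hi
      by_cases hi' : i < a + n
      · exact DerivedCategory.isZero_of_isGE C (a + n) i hi'
      · obtain rfl : i = a + n := by push_cast at hi; lia
        have h6 := hi1 (a + n) le_rfl
        rw [h4, Functor.map_zero] at h6
        have h7 : IsZero ((DerivedCategory.homologyFunctor B (a + n)).obj T.obj₂) := by
          rw [IsZero.iff_id_eq_zero, ← cancel_epi (0 : (DerivedCategory.homologyFunctor B (a + n)).obj T.obj₁ ⟶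
            (DerivedCategory.homologyFunctor B (a + n)).obj T.obj₂)]
          simp
        rwa [hT2] at h7
  rw [PerfA.ExactD.isZero_iff]
  intro n
  have := key (n + 1 - a).toNat
  exact DerivedCategory.isZero_of_isGE C (a + (n + 1 - a).toNat) n (by lia)

/-- **Criterion for `K ⟶ R P K` to be an isomorphism.** -/
theorem isIso_unit_of_orth (hc : ∀ M : A, IsIso (adj.counit.app M)) (K : DerivedCategory.Plus B)
    (horth : ∀ (Z : B), IsZero (P.obj Z) → ∀ (n : ℤ) (f : (DerivedCategory.singleFunctor B n).obj Z ⟶
      DerivedCategory.Plus.ι.obj K), f = 0) : IsIso ((dadj adj).unit.app K) := by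
  let η := (dadj adj).unit.app K
  have h1 : IsIso (P.rightDerivedFunctorPlus.map η) := by
    have h2 := (dadj adj).left_triangle_components K
    have h3 := isIso_counit adj hc (P.rightDerivedFunctorPlus.obj K)
    have h4 : IsIso (P.rightDerivedFunctorPlus.map ((dadj adj).unit.app K) ≫
        (dadj adj).counit.app (P.rightDerivedFunctorPlus.obj K)) := by
      rw [h2]
      exact IsIso.id _
    exact IsIso.of_isIso_comp_right _ ((dadj adj).counit.app (P.rightDerivedFunctorPlus.obj K))
  have h5 : ∀ n, IsIso (P.map ((DerivedCategory.homologyFunctor B n).map (DerivedCategory.Plus.ι.map η))) := by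
    intro n
    have h6 : IsIso ((P.rightDerivedFunctorPlus ⋙ DerivedCategory.Plus.ι ⋙
        DerivedCategory.homologyFunctor A n).map η) := by
      rw [Functor.comp_map]
      exact Functor.map_isIso _ _
    exact (NatIso.isIso_map_iff (homologyExact P n) η).1 h6
  obtain ⟨C, g, h, hT⟩ := distinguished_cocone_triangle (DerivedCategory.Plus.ι.map η)
  obtain ⟨a, ha⟩ := K.property
  obtain ⟨b, hb⟩ := (R.rightDerivedFunctorPlus.obj (P.rightDerivedFunctorPlus.obj K)).property
  have ha' : (DerivedCategory.Plus.ι.obj K).IsGE a := ha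
  have hb' : (DerivedCategory.Plus.ι.obj (R.rightDerivedFunctorPlus.obj (P.rightDerivedFunctorPlus.obj K))).IsGE b := hb
  have hge : C.IsGE (min a b - 1) := by
    rw [DerivedCategory.isGE_iff]
    intro i hi
    have hx := DerivedCategory.HomologySequence.exact₃ _ hT i (i + 1) rfl
    refine ShortComplex.Exact.isZero_of_both_zeros hx ?_ ?_
    · exact (DerivedCategory.isZero_of_isGE (DerivedCategory.Plus.ι.obj
        (R.rightDerivedFunctorPlus.obj (P.rightDerivedFunctorPlus.obj K))) b i (by lia)).eq_of_src _ _
    · exact (DerivedCategory.isZero_of_isGE (DerivedCategory.Plus.ι.obj K) a (i + 1) (by lia)).eq_of_tgt _ _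
  have hP : ∀ n, IsZero (P.obj ((DerivedCategory.homologyFunctor B n).obj C)) := by
    have hT' := P.mapDerivedCategory.map_distinguished _ hT
    have hi : IsIso (P.mapDerivedCategory.map (DerivedCategory.Plus.ι.map η)) := by
      refine (NatIso.isIso_map_iff (exactPlus P) η).1 ?_
      rw [Functor.comp_map]
      exact Functor.map_isIso _ _
    have h0 := Triangle.isZero₃_of_isIso₁ _ hT' hi
    intro n
    exact ((PerfA.ExactD.isZero_iff _).1 h0 n).of_iso ((PerfA.ExactD.mapHomology P n).app C).symm
  have hC : IsZero C := by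
    refine isZero_of_orth C (min a b - 1) hP fun Z hZ n f => ?_
    have h7 : f ≫ h = 0 := by
      let e : ((DerivedCategory.singleFunctor B (n + 1)).obj Z)⟦(1 : ℤ)⟧ ≅ (DerivedCategory.singleFunctor B n).obj Z :=
        ((DerivedCategory.singleFunctors B).shiftIso 1 n (n + 1) (by lia)).app Z
      obtain ⟨g', hg'⟩ := (shiftFunctor (DerivedCategory B) (1 : ℤ)).map_surjective (e.hom ≫ f ≫ h)
      have hg0 : g' = 0 := horth Z hZ (n + 1) g'
      rw [← cancel_epi e.hom, ← hg', hg0, comp_zero]
      exact Functor.map_zero _ _ _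
    obtain ⟨f', hf'⟩ := Triangle.coyoneda_exact₃ _ hT f h7
    have h8 : f' = 0 := orth_push adj (P.rightDerivedFunctorPlus.obj K) Z hZ n f'
    rw [hf', h8]
    exact zero_comp
  have h9 : IsIso (DerivedCategory.Plus.ι.map η) := (Triangle.isZero₃_iff_isIso₁ _ hT).1 hC
  exact isIso_of_fully_faithful DerivedCategory.Plus.ι η

end Orth

end K552.LocUnit
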