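import Groth.Agent.EtDepth.K555.DescVan
import Groth.Agent.EtDepth.K973.PushGen
import Groth.Agent.Sga2lef.H91.LocPt
import Groth.Agent.CurvesC.Dual1

/-!
# Duality over a point

* `nonempty_hom_shriek`: `Hom(Rf_! K, Λ[r]) ≃ Hom(K, Λ[r + e])` from the duality `Rf_! ⊣ (f^* - ⊗ ω)[e]`, `ω ≅ Λ`;
* `isGE_of_hom`: over a separably closed field, `K` is in degrees `≥ n` if `Hom(K, Λ[j]) = 0` for `j > -n`.
-/

set_option autoImplicit false
universe w w' v v' u u'

open CategoryTheory CategoryTheory.Limits AlgebraicGeometry Opposite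

namespace K552.PointHom

section Abs

open Groth.Agent Groth.Agent.Etdl.H860 K973.PushAbs

variable {A : Type u} [Category.{v} A] [Abelian A] [HasDerivedCategory.{w} A] [EnoughInjectives A]
  {B : Type u'} [Category.{v'} B] [Abelian B] [HasDerivedCategory.{w'} B] [EnoughInjectives B]

/-- `Hom(Φ M, C[r]) ≃ Hom(M, (G C)[r + e])`. -/
theorem nonempty_equiv (Φ : DerivedCategory.Plus A ⥤ DerivedCategory.Plus B) (G : B ⥤ A) [G.Additive]
    (T : B ⥤ A) [T.Additive] [PreservesFiniteLimits T] [PreservesFiniteColimits T] (i : T ≅ G) (e : ℤ)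
    (adj : Φ ⊣ T.rightDerivedFunctorPlus ⋙ shiftFunctor (DerivedCategory.Plus A) e)
    (M : DerivedCategory.Plus A) (C : B) (r : ℤ) :
    Nonempty ((DerivedCategory.Plus.ι.obj (Φ.obj M) ⟶ ((DerivedCategory.singleFunctor B 0).obj C)⟦r⟧) ≃
      (DerivedCategory.Plus.ι.obj M ⟶ ((DerivedCategory.singleFunctor A 0).obj (G.obj C))⟦r + e⟧)) := by
  let S := (DerivedCategory.Plus.singleFunctor B 0).obj C
  let S' := (DerivedCategory.Plus.singleFunctor A 0).obj (G.obj C)
  have e1 := homιShift (Φ.obj M) S r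
  have e2 := adj.homEquiv M (S⟦r⟧)
  let t : (T.rightDerivedFunctorPlus ⋙ shiftFunctor (DerivedCategory.Plus A) e).obj (S⟦r⟧) ≅ S'⟦r + e⟧ :=
    (shiftFunctor (DerivedCategory.Plus A) e).mapIso (rdShift T S r ≪≫
      (shiftFunctor (DerivedCategory.Plus A) r).mapIso (rdSingle T C ≪≫
        (DerivedCategory.Plus.singleFunctor A 0).mapIso (i.app C))) ≪≫
      (shiftFunctorAdd (DerivedCategory.Plus A) r e).symm.app S'
  have e3 : (M ⟶ (T.rightDerivedFunctorPlus ⋙ shiftFunctor (DerivedCategory.Plus A) e).obj (S⟦r⟧)) ≃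
      (M ⟶ S'⟦r + e⟧) := Iso.homCongr (Iso.refl _) t
  have e4 := homιShift M S' (r + e)
  exact ⟨e1.symm.trans (e2.trans (e3.trans e4))⟩

end Abs

attribute [local instance] HasDerivedCategory.standard

section Shriek

open Groth.Agent Groth.Agent.Etdl.H426.Iface

variable {Λ : Type (u + 1)} [CommRing Λ] {X S : Scheme.{u}}

/-- `Hom(Rf_! K, Λ[r]) ≃ Hom(K, Λ[r + e])`. -/
theorem nonempty_hom_shriek {f : X ⟶ S} (c : DEt.Compactification f) (e : ℤ) (ω : EtModW.Mod Λ X)
    (hω : Nonempty (ω ≅ EtModW.constMod Λ X Λ))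
    (hadj : Nonempty (EtDl.RshriekPlus Λ c ⊣ EtDl.twistedPullPlus Λ f ω e))
    (K : DerivedCategory.Plus (EtModW.Mod Λ X)) (r : ℤ) :
    Nonempty ((DerivedCategory.Plus.ι.obj ((EtDl.RshriekPlus Λ c).obj K) ⟶
        ((DerivedCategory.singleFunctor _ 0).obj (EtModW.constMod Λ S Λ))⟦r⟧) ≃
      (DerivedCategory.Plus.ι.obj K ⟶
        ((DerivedCategory.singleFunctor _ 0).obj (EtModW.constMod Λ X Λ))⟦r + e⟧)) := by
  obtain ⟨adj⟩ := hadj
  obtain ⟨j⟩ := K973.PushGen.nonempty_twistBy_iso hω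
  have h1 : PreservesFiniteLimits (EtDl.twistBy Λ X ω) := preservesFiniteLimits_of_natIso j.symm
  have h2 : PreservesFiniteColimits (EtDl.twistBy Λ X ω) := preservesFiniteColimits_of_natIso j.symm
  have h3 := Etdl.H426.T1Plus.preservesFiniteLimits_T1 Λ f ω
  have h4 := Etdl.H426.T1Plus.preservesFiniteColimits_T1 Λ f ω
  have adj' := adj.ofNatIsoRight (Etdl.H426.T1Plus.twistedPullPlusIso Λ f ω e)
  obtain ⟨eq⟩ := nonempty_equiv (EtDl.RshriekPlus Λ c) (EtModW.pull Λ f) (T1 Λ f ω)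
    (Functor.isoWhiskerLeft (EtModW.pull Λ f) j ≪≫ Functor.rightUnitor _) e adj' K (EtModW.constMod Λ S Λ) r
  exact ⟨eq.trans (Iso.homCongr (Iso.refl _) ((shiftFunctor _ (r + e)).mapIso
    ((DerivedCategory.singleFunctor _ 0).mapIso (EtSix.pullConstΛ Λ f))))⟩

end Shriek

section Point

attribute [local instance 5000] CategoryTheory.Abelian.toPreadditive
  CategoryTheory.Preadditive.preadditiveHasZeroMorphisms

open Groth.Agent DerivedCategory
open scoped Groth.Agent.Sga4h.ModInst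

variable {Λ : Type (u + 1)} [CommRing Λ] {k : Type u} [Field k] [IsSepClosed k]

/-- Over a separably closed field: `K` is in degrees `≥ n` if `Hom(K, Λ[j]) = 0` for all `j > -n`. -/
theorem isGE_of_hom (hΛ : Sga2lef.H91.LocPt.Cog Λ)
    [Injective (EtModW.constMod Λ (Spec (CommRingCat.of k)) Λ)]
    (K : DerivedCategory (EtModW.Mod Λ (Spec (CommRingCat.of k)))) (n : ℤ)
    (h : ∀ j : ℤ, -n < j → Subsingleton (K ⟶ ((singleFunctor _ 0).obj
      (EtModW.constMod Λ (Spec (CommRingCat.of k)) Λ))⟦j⟧)) : K.IsGE n := by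
  rw [isGE_iff]
  intro i hi
  let J := EtModW.constMod Λ (Spec (CommRingCat.of k)) Λ
  refine Sga2lef.H91.LocPt.isZero_of_hom_const hΛ _ ⟨fun φ ψ => ?_⟩
  have hbij := CurvesC.Dual1.homologyFunctor_map_bijective K J i
  let ε : (homologyFunctor _ i).obj ((singleFunctor _ i).obj J) ≅ J := (singleFunctorCompHomologyFunctorIso _ i).app J
  obtain ⟨f, hf⟩ := hbij.surjective (φ ≫ ε.inv)
  obtain ⟨g, hg⟩ := hbij.surjective (ψ ≫ ε.inv)
  let e : (singleFunctor (EtModW.Mod Λ (Spec (CommRingCat.of k))) i).obj J ≅ ((singleFunctor _ 0).obj J)⟦-i⟧ :=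
    (((singleFunctors (EtModW.Mod Λ (Spec (CommRingCat.of k)))).shiftIso (-i) i 0 (by lia)).app J).symm
  have hs := h (-i) (by lia)
  have hfg : f = g := by
    rw [← cancel_mono e.hom]
    exact hs.elim _ _
  rw [← cancel_mono ε.inv]
  rw [hfg] at hf
  exact hf.symm.trans hg

end Point

end K552.PointHom
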