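import Groth.Agent.EtDepth.K552.OrthD

/-!
# Duality and direct images along an open immersion

`κ : W ⟶ A` an open immersion (étale monomorphism), `D` the duality `stdDual`.
* `nonempty_push_D`: `Rκ_* (D M) ≅ D (κ_! M)`;
* `nonempty_D_push`: `D (Rκ_* N) ≅ κ_! M` for `N ≅ D M`, `κ_! M` reflexive;
* `nonempty_hom_push`: `Hom(Rκ_* N, Λ[q]) ≃ Hom(Λ, (κ_! M)[q])`.
-/

set_option autoImplicit false
universe u

open CategoryTheory CategoryTheory.Limits AlgebraicGeometry Opposite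

attribute [local instance 5000] CategoryTheory.Abelian.toPreadditive
  CategoryTheory.Preadditive.preadditiveHasZeroMorphisms

namespace K552.PushDual

attribute [local instance] HasDerivedCategory.standard
open scoped Groth.Agent.Sga4h.ModInst
open Groth.Agent Groth.Agent.Sga4h Groth.Agent.Sga4h.Refl Groth.Agent.Sga4h.ModRestr
  Groth.Agent.Sga4h.BidRed538Main K552.OrthD

variable {Λ : Type (u + 1)} [CommRing Λ] {W A : Scheme.{u}} (κ : W ⟶ A) [Etale κ]

/-- The restriction of the extension by zero. -/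
noncomputable def resExt [Mono κ] (M : CochainComplex (EtModW.Mod Λ W) ℤ) :
    M ≅ (resC κ).obj ((extC κ).obj M) :=
  HomologicalComplex.Hom.isoOfComponents
    (fun i => @asIso _ _ _ _ ((extResAdj Λ κ).unit.app (M.X i))
      (@NatIso.isIso_app_of_isIso _ _ _ _ _ _ _ (isIso_extResAdj_unit Λ κ) (M.X i)))
    (fun i j _ => ((extResAdj Λ κ).unit.naturality (M.d i j)).symm)

/-- Extension by zero and upper bounds. -/
theorem isLE_ext (M : CochainComplex (EtModW.Mod Λ W) ℤ) (b : ℤ) (hM : (DerivedCategory.Q.obj M).IsLE b) :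
    (DerivedCategory.Q.obj ((extC κ).obj M)).IsLE b := by
  have h := PerfA.ExactD.isLE_map (ext Λ κ) (DerivedCategory.Q.obj M) b
  rw [DerivedCategory.isLE_iff] at h ⊢
  intro i hi
  exact (h i hi).of_iso ((DerivedCategory.homologyFunctor _ i).mapIso
    ((ext Λ κ).mapDerivedCategoryFactors.app M).symm)

/-- `D M` is bounded below for `M` bounded above. -/
theorem isGE_D (M : CochainComplex (EtModW.Mod Λ A) ℤ) (b : ℤ) (hM : (DerivedCategory.Q.obj M).IsLE b) :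
    (DerivedCategory.Q.obj ((stdDual Λ A).D M)).IsGE (-b) :=
  BidBddEt.isGE_D (stdJ Λ A) (isKInjective_stdJ Λ A) (injective_stdJ Λ A)
    (EtModW.constMod Λ A Λ) (asIso (DerivedCategory.Q.map (stdι Λ A))).symm M b hM

/-- **`Rκ_* (D M) ≅ D (κ_! M)`.** -/
theorem nonempty_push_D [Mono κ] (M : CochainComplex (EtModW.Mod Λ W) ℤ) (b : ℤ)
    (hM : (DerivedCategory.Q.obj M).IsLE b) (N : DerivedCategory.Plus (EtModW.Mod Λ W))
    (e : DerivedCategory.Plus.ι.obj N ≅ DerivedCategory.Q.obj ((stdDual Λ W).D M)) :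
    Nonempty (DerivedCategory.Plus.ι.obj ((EtDl.pushPlus Λ κ).obj N) ≅
      DerivedCategory.Q.obj ((stdDual Λ A).D ((extC κ).obj M))) := by
  let K : DerivedCategory.Plus (EtModW.Mod Λ A) :=
    ⟨DerivedCategory.Q.obj ((stdDual Λ A).D ((extC κ).obj M)), ⟨-b, isGE_D _ b (isLE_ext κ M b hM)⟩⟩
  have h1 := LocUnit.isIso_unit_of_orth (resPushAdj Λ κ) (fun F => inferInstance) K
    (fun Z hZ n f => orth_D κ M Z hZ n f)
  obtain ⟨e2⟩ := nonempty_res_D κ ((extC κ).obj M)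
  obtain ⟨e3⟩ := OrthD.nonempty_D_iso (stdDual Λ W) (DerivedCategory.Q.mapIso (resExt κ M).symm)
  let e4 : DerivedCategory.Plus.ι.obj ((res Λ κ).rightDerivedFunctorPlus.obj K) ≅ DerivedCategory.Plus.ι.obj N :=
    (LocUnit.exactPlus (res Λ κ)).app K ≪≫ (res Λ κ).mapDerivedCategoryFactors.app _ ≪≫ e2 ≪≫ e3 ≪≫ e.symm
  let e5 : (res Λ κ).rightDerivedFunctorPlus.obj K ≅ N := DerivedCategory.Plus.ι.preimageIso e4
  let e6 : K ≅ (EtModW.push Λ κ).rightDerivedFunctorPlus.obj ((res Λ κ).rightDerivedFunctorPlus.obj K) :=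
    @asIso _ _ _ _ ((Etdl.H424.PlusAdj.dadj (resPushAdj Λ κ)).unit.app K) h1
  exact ⟨DerivedCategory.Plus.ι.mapIso ((EtDl.pushPlus Λ κ).mapIso e5.symm ≪≫ e6.symm)⟩

/-- **`D (Rκ_* N) ≅ κ_! M`** for `N ≅ D M` and `κ_! M` reflexive. -/
theorem nonempty_D_push [Mono κ] (M : CochainComplex (EtModW.Mod Λ W) ℤ) (b : ℤ)
    (hM : (DerivedCategory.Q.obj M).IsLE b) (N : DerivedCategory.Plus (EtModW.Mod Λ W))
    (e : DerivedCategory.Plus.ι.obj N ≅ DerivedCategory.Q.obj ((stdDual Λ W).D M))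
    (hR : (stdDual Λ A).Refl ((extC κ).obj M)) (X : CochainComplex (EtModW.Mod Λ A) ℤ)
    (eX : DerivedCategory.Q.obj X ≅ DerivedCategory.Plus.ι.obj ((EtDl.pushPlus Λ κ).obj N)) :
    Nonempty (DerivedCategory.Q.obj ((stdDual Λ A).D X) ≅ DerivedCategory.Q.obj ((extC κ).obj M)) := by
  obtain ⟨e1⟩ := nonempty_push_D κ M b hM N e
  obtain ⟨e2⟩ := OrthD.nonempty_D_iso (stdDual Λ A) (eX ≪≫ e1)
  have h3 := hR.qis
  exact ⟨e2 ≪≫ (@asIso _ _ _ _ (DerivedCategory.Q.map ((stdDual Λ A).ev ((extC κ).obj M)))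
    ((DerivedCategory.isIso_Q_map_iff_quasiIso _ _).2 h3)).symm⟩

/-- **`Hom(Rκ_* N, Λ[q]) ≃ Hom(Λ, (κ_! M)[q])`** for `N ≅ D M` and `κ_! M` reflexive. -/
theorem nonempty_hom_push [Mono κ] (M : CochainComplex (EtModW.Mod Λ W) ℤ) (b : ℤ)
    (hM : (DerivedCategory.Q.obj M).IsLE b) (N : DerivedCategory.Plus (EtModW.Mod Λ W))
    (e : DerivedCategory.Plus.ι.obj N ≅ DerivedCategory.Q.obj ((stdDual Λ W).D M))
    (hR : (stdDual Λ A).Refl ((extC κ).obj M)) (q : ℤ) :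
    Nonempty ((DerivedCategory.Plus.ι.obj ((EtDl.pushPlus Λ κ).obj N) ⟶
        ((DerivedCategory.singleFunctor _ 0).obj (EtModW.constMod Λ A Λ))⟦q⟧) ≃
      ((DerivedCategory.singleFunctor _ 0).obj (EtModW.constMod Λ A Λ) ⟶
        (DerivedCategory.Q.obj ((extC κ).obj M))⟦q⟧)) := by
  let X : CochainComplex (EtModW.Mod Λ A) ℤ :=
    DerivedCategory.Q.objPreimage (DerivedCategory.Plus.ι.obj ((EtDl.pushPlus Λ κ).obj N))
  let eX : DerivedCategory.Q.obj X ≅ DerivedCategory.Plus.ι.obj ((EtDl.pushPlus Λ κ).obj N) :=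
    DerivedCategory.Q.objObjPreimageIso _
  obtain ⟨e1⟩ := nonempty_D_push κ M b hM N e hR X eX
  obtain ⟨e2⟩ := BidGlobU.nonempty_homUnit (stdDual Λ A) (TensorUnit.tensorUnitRight Λ A)
    (stdι Λ A) (quasiIso_stdι Λ A) X q
  exact ⟨(Iso.homCongr eX.symm (Iso.refl _)).trans (e2.symm.trans (Iso.homCongr (Iso.refl _)
    ((shiftFunctor _ q).mapIso e1)))⟩

end K552.PushDual
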