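import Groth.Agent.EtDepth.K552.HomPush
import Groth.Agent.EtDepth.K552.PointHom
import Groth.Agent.Sga2lef.H134.Final
import Groth.Agent.Etrest.SHPoint
import Groth.Agent.S3727

/-!
# The vanishing theorem on affine space over an algebraically closed field of characteristic zero
-/

set_option autoImplicit false
universe u

open CategoryTheory CategoryTheory.Limits AlgebraicGeometry Opposite

attribute [local instance 5000] CategoryTheory.Abelian.toPreadditive
  CategoryTheory.Preadditive.preadditiveHasZeroMorphisms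

-- kernel speed: find the instances on `ULift (ZMod m)` through `CommRing`
attribute [-instance] ULift.ring ULift.semiring ULift.commSemiring ULift.addCommGroup ULift.addCommMonoid

namespace K552.VanA

attribute [local instance] HasDerivedCategory.standard
open scoped Groth.Agent.Sga4h.ModInst
open Groth.Agent Groth.Agent.Sga4h Groth.Agent.Sga4h.Refl Groth.Agent.Sga4B DerivedCategory
  Groth.Agent.Sga4h.BidRed538Main Groth.Agent.Etrest.ModAb Groth.Agent.Sga4h.EtPts K973.Stmt
open Groth.Agent.Sga2lef.H88.LocDualMap Groth.Agent.Sga2lef.H88.LocDualEt Groth.Agent.Sga2lef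

/-- The Kummer sheaf over a separably closed field is constant. -/
theorem isKummer {k : Type u} [Field k] [IsSepClosed k] {X : Scheme.{u}} (f : X ⟶ Spec (CommRingCat.of k)) (m : ℕ)
    (hm : (m : k) ≠ 0) :
    EtModD.IsKummer m (EtModW.constMod (ULift.{u + 1} (ZMod m)) X (ULift.{u + 1} (ZMod m))) :=
  K973.MuTriv.isKummer_const m (K973.MuTriv.nonempty_const_mu k
    ⟨inferInstance, Groth.Agent.Etrest.SHPoint.isSepClosed_residueField k⟩ m
    (fun h => hm (by rw [h, Nat.cast_zero])) (IsUnit.mk0 _ hm) f)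

/-- **Duality** over a separably closed field. -/
theorem nonempty_hom_shriek {k : Type u} [Field k] [IsSepClosed k] {X : Scheme.{u}}
    {f : X ⟶ Spec (CommRingCat.of k)} [CompactSpace X] [QuasiSeparatedSpace X] (d : ℕ)
    [SmoothOfRelativeDimension d f] (c : DEt.Compactification f) (m : ℕ) (hm : (m : k) ≠ 0)
    (K : Plus (EtModW.Mod (Lam.{u} m) X)) (r : ℤ) :
    Nonempty ((Plus.ι.obj ((EtDl.RshriekPlus (Lam.{u} m) c).obj K) ⟶
        ((singleFunctor _ 0).obj (EtModW.constMod (Lam.{u} m) (Spec (CommRingCat.of k)) (Lam.{u} m)))⟦r⟧) ≃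
      (Plus.ι.obj K ⟶ ((singleFunctor _ 0).obj (EtModW.constMod (Lam.{u} m) X (Lam.{u} m)))⟦r + 2 * (d : ℤ)⟧)) := by
  have hm0 : 0 < m := Nat.pos_of_ne_zero fun h => hm (by rw [h, Nat.cast_zero])
  refine PointHom.nonempty_hom_shriek c (2 * (d : ℤ))
    (EtModD.tate (EtModW.constMod (ULift.{u + 1} (ZMod m)) X (ULift.{u + 1} (ZMod m))) d)
    (K973.MuTriv.nonempty_tensorPow_iso (Lam.{u} m) X d) ?_ K r
  refine Groth.Agent.S3727.result d c m hm0 ?_ _ (isKummer f m hm)
  have h1 : IsUnit (m : k) := IsUnit.mk0 _ hm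
  have h2 := h1.map ((Scheme.ΓSpecIso (CommRingCat.of k)).inv.hom)
  rwa [map_natCast] at h2

/-- The compactification of affine space. -/
noncomputable def cpt (S : Scheme.{u}) (N : ℕ) : DEt.Compactification (𝔸(ULift.{u} (Fin N); S) ↘ S) where
  Xbar := IterP1.P S N
  j := IterP1.aff S N
  fbar := IterP1.toBase S N
  isOpenImmersion := inferInstance
  isProper := inferInstance
  fac := IterP1.aff_toBase S N

theorem smoothOfRelativeDimension (S : Scheme.{u}) (N : ℕ) :
    SmoothOfRelativeDimension N (𝔸(ULift.{u} (Fin N); S) ↘ S) := by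
  have h0 : SmoothOfRelativeDimension (0 + N) (IterP1.aff S N ≫ IterP1.toBase S N) := inferInstance
  rwa [zero_add, IterP1.aff_toBase] at h0

variable {k : Type u} [Field k] [IsAlgClosed k] [CharZero k]

/-- `Hom(Rκ_* κ^* G, Λ[q]) = 0` on affine space. -/
theorem subsingleton_hom {m : ℕ} (hm : IsPrimePow m) (N n : ℕ)
    (W : 𝔸(ULift.{u} (Fin N); Spec (CommRingCat.of k)).Opens)
    (G : EtModW.Mod (Lam.{u} m) 𝔸(ULift.{u} (Fin N); Spec (CommRingCat.of k)))
    (hG : EtModW.IsConstructible (Lam.{u} m) G)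
    (hD : DepthOn ((EtModD.forgetToAb (Lam.{u} m) _).obj G) W n) (q : ℤ) (hq : 2 * N - n < q) :
    Subsingleton (Plus.ι.obj (openPush m W G) ⟶ ((singleFunctor _ 0).obj (EtModW.constMod (Lam.{u} m)
      𝔸(ULift.{u} (Fin N); Spec (CommRingCat.of k)) (Lam.{u} m)))⟦q⟧) := by
  have : NeZero m := ⟨hm.pos.ne'⟩
  have hfin : Finite (Lam.{u} m) := inferInstanceAs (Finite (ULift.{u + 1} (ZMod m)))
  have hmk : (m : k) ≠ 0 := Nat.cast_ne_zero.2 hm.pos.ne'
  let S : Scheme.{u} := Spec (CommRingCat.of k)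
  let A : Scheme.{u} := 𝔸(ULift.{u} (Fin N); S)
  let f : A ⟶ S := 𝔸(ULift.{u} (Fin N); S) ↘ S
  have hNP : IsNoetherian (IterP1.P S N) := Groth.Agent.Sga4h.BidRed538Geo.isNoetherian_P k N
  have hA : IsAffine A := isAffine_of_isAffineHom f
  have hsm : Smooth f := (smoothOfRelativeDimension S N).smooth
  have hsmW : Smooth (W.ι ≫ f) := inferInstance
  have hRA := fun E hE => H93.ReflSm.refl_of_isDbc k m hmk f E hE
  have hRW := fun E hE => H93.ReflSm.refl_of_isDbc k m hmk (W.ι ≫ f) E hE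
  have hCP : H134.Supp.CPAt (Lam.{u} m) W.toScheme N :=
    H134.CP.cpAt_of_stalkForm N (H134.CP.stalkForm (W.ι ≫ f) hm.pos (2 * N)
      (bddInj_res W.ι (H134.Final.bddInj k m hmk N)) hRW)
  refine HomPush.subsingleton_hom W.ι (H134.Inputs.stmtSP k) (H134.Inputs.stmtFin k) (IterP1.aff S N) f hm.pos
    (H134.Glue.lam_cast_eq_zero m) N n
    (H134.BidP.bid_gen_P hm.pos (H134.Glue.lam_cast_eq_zero m) (H134.BidP.in_zmod hm.pos) k hmk N)
    hRA hRW hCP ((EtModW.pull (Lam.{u} m) W.ι).obj G) (Etcore.LCrit.isConstructible_pull _ G hG) ?_ q hq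
  intro v d hd
  refine H134.DepthAt.DepthAtGE.of_iso ((pullIso (Lam.{u} m) W.ι).app G).symm ?_
  refine (H134.DepthAt.depthAtGE_pull_iff W.ι _ v _).2 (hD.out (W.ι v) v.2 d ?_)
  rw [← hd]
  exact (H134.DimCl.dim_closure_preimmersion f W.ι v).symm

/-- **The vanishing theorem on affine space** over an algebraically closed field of characteristic zero. -/
theorem hypVanish {m : ℕ} (hm : IsPrimePow m) (N n : ℕ)
    (W : 𝔸(ULift.{u} (Fin N); Spec (CommRingCat.of k)).Opens)
    (G : EtModW.Mod (Lam.{u} m) 𝔸(ULift.{u} (Fin N); Spec (CommRingCat.of k)))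
    (hG : EtModW.IsConstructible (Lam.{u} m) G)
    (hD : DepthOn ((EtModD.forgetToAb (Lam.{u} m) _).obj G) W n) :
    HypVanish m ((EtDl.RshriekPlus (Lam.{u} m) (cpt (Spec (CommRingCat.of k)) N)).obj (openPush m W G)) n := by
  have hmk : (m : k) ≠ 0 := Nat.cast_ne_zero.2 hm.pos.ne'
  let S : Scheme.{u} := Spec (CommRingCat.of k)
  let A : Scheme.{u} := 𝔸(ULift.{u} (Fin N); S)
  let f : A ⟶ S := 𝔸(ULift.{u} (Fin N); S) ↘ S
  have hA : IsAffine A := isAffine_of_isAffineHom f
  have hsm : SmoothOfRelativeDimension N f := smoothOfRelativeDimension S N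
  let C := (EtDl.RshriekPlus (Lam.{u} m) (cpt S N)).obj (openPush m W G)
  have hinj : Injective (ModuleCat.of (Lam.{u} m) (Lam.{u} m)) := ModPoint.injective_zmod m hm.pos
  have hinj' : Injective (EtModW.constMod (Lam.{u} m) S (Lam.{u} m)) := ModPoint.injective_constMod _ k
  have h1 : (Plus.ι.obj C).IsGE n := by
    refine PointHom.isGE_of_hom (H91.LocPt.cog_zmod hm.pos) _ n fun j hj => ?_
    obtain ⟨e⟩ := nonempty_hom_shriek N (cpt S N) m hmk (openPush m W G) j
    have := subsingleton_hom hm N n W G hG hD (j + 2 * (N : ℤ)) (by lia)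
    exact e.subsingleton
  have h2 : C.IsGE n := (Plus.isGE_ι_obj_iff C n).1 h1
  exact ⟨fun i hi => K555.DescVan.subsingleton_hom_of_isGE C n i hi h2⟩

end K552.VanA
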