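import Groth.Agent.EtDepth.K552.VanL
import Groth.Agent.EtDepth.K555.OpenPush
import Groth.Agent.Sga2lef.H134.SepWE
import Groth.Agent.EtpbcB.BCMorField

/-!
# The vanishing theorem over a field of characteristic zero

`main`: `K973.Stmt.Van (Spec k) m` for a field `k` of characteristic zero and a prime power `m`.
-/

set_option autoImplicit false
universe u

open CategoryTheory CategoryTheory.Limits AlgebraicGeometry Opposite

-- kernel speed: find the instances on `ULift (ZMod m)` through `CommRing`
attribute [-instance] ULift.ring ULift.semiring ULift.commSemiring ULift.addCommGroup ULift.addCommMonoid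

namespace K552.VanK

attribute [local instance] HasDerivedCategory.standard
open Groth.Agent K973.Stmt K555.DescVan K555.OpenPush Groth.Agent.Sga2lef Groth.Agent.Sga2lef.H134.SepWE

/-- **The vanishing theorem** over a field of characteristic zero. -/
theorem main (k : Type u) [Field k] [CharZero k] {m : ℕ} (hm : IsPrimePow m) :
    Van (Spec (CommRingCat.of k)) m := by
  intro L _ f _ c W G hGc n hD
  have hchar : CharZero (AlgebraicClosure k) := charZero_of_injective_algebraMap
    (algebraMap k (AlgebraicClosure k)).injective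
  have hm0 : 0 < m := hm.pos
  let g := sp k
  have hg : WeaklyEtale g := weaklyEtale_sp k
  have H : IsPullback (pullback.fst f g) (pullback.snd f g) f g := IsPullback.of_hasPullback f g
  have hwe : WeaklyEtale (pullback.fst f g) := inferInstance
  have hint : IsIntegralHom (pullback.fst f g) := inferInstance
  have hA' : IsAffine (pullback f g) := isAffine_of_isAffineHom (pullback.fst f g)
  let c' := cptBC H c
  have hD' : DepthOn ((EtModD.forgetToAb (Lam.{u} m) _).obj
      ((EtModW.pull (Lam.{u} m) (pullback.fst f g)).obj G)) (pullback.fst f g ⁻¹ᵁ W) n := by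
    refine ⟨fun u hu d hd => H134.DepthAt.DepthAtGE.of_iso
      ((Etrest.ModAb.pullIso (Lam.{u} m) (pullback.fst f g)).app G).symm ?_⟩
    refine (H134.DepthAt.depthAtGE_pull_iff (pullback.fst f g) _ u _).2 (hD.out _ hu d ?_)
    rw [← hd]
    exact (H134.DimCl.dim_closure_integral f (pullback.snd f g) (pullback.fst f g) g pullback.condition u).symm
  have hV' := VanL.van (AlgebraicClosure k) hm (pullback.snd f g) c' (pullback.fst f g ⁻¹ᵁ W)
    ((EtModW.pull (Lam.{u} m) (pullback.fst f g)).obj G)
    (Groth.Agent.Etcore.LCrit.isConstructible_pull _ G hGc) n hD'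
  have hbc : Groth.Agent.EtpbcB.BCU.UBC (Spec (CommRingCat.of k)) g :=
    Groth.Agent.EtpbcB.BCU.UBC.of_field (algebraMap k (AlgebraicClosure k))
  have hbc' : Groth.Agent.EtpbcB.BCU.BCMor (Spec (CommRingCat.of k)) (pullback.fst f g) :=
    (hbc.of_isPullback H.flip).bcMor
  let K := (EtDl.RshriekPlus (Lam.{u} m) c).obj (openPush m W G)
  have hlN : IsLocallyNoetherian L := LocallyOfFiniteType.isLocallyNoetherian f
  have hsc : IsSepClosed (IsLocalRing.ResidueField (AlgebraicClosure k)) :=
    Groth.Agent.Etrest.SHPoint.isSepClosed_residueField (AlgebraicClosure k)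
  refine hypVanish_descent (algebraMap k (AlgebraicClosure k)) K n ?_
  obtain ⟨e2⟩ := K593.IndepPlus.nonempty_baseChange (Lam.{u} m) H c c' m hm0 (natCast_lam m)
  obtain ⟨e3⟩ := nonempty_pull_openPush hm0 k (pullback.fst f g) hbc' W G
  exact hypVanish_of_iso (e2.app (openPush m W G) ≪≫ (EtDl.RshriekPlus (Lam.{u} m) c').mapIso e3).symm hV'

end K552.VanK
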