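import Groth.Agent.EtDepth.K552.VanA
import Groth.Agent.EtDepth.K482.Shriek

/-!
# The vanishing theorem over an algebraically closed field of characteristic zero
-/

set_option autoImplicit false
universe u

open CategoryTheory CategoryTheory.Limits AlgebraicGeometry Opposite

-- kernel speed: find the instances on `ULift (ZMod m)` through `CommRing`
attribute [-instance] ULift.ring ULift.semiring ULift.commSemiring ULift.addCommGroup ULift.addCommMonoid

namespace K552.VanL

attribute [local instance] HasDerivedCategory.standard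
open Groth.Agent Groth.Agent.Sga4B DerivedCategory Groth.Agent.Etrest.ModAb K973.Stmt
open Groth.Agent.Sga2lef

/-- **The vanishing theorem** over an algebraically closed field of characteristic zero. -/
theorem van (k : Type u) [Field k] [IsAlgClosed k] [CharZero k] {m : ℕ} (hm : IsPrimePow m) :
    Van (Spec (CommRingCat.of k)) m := by
  intro L _ f _ c W G hG n hD
  have : NeZero m := ⟨hm.pos.ne'⟩
  have hfin : Finite (Lam.{u} m) := inferInstanceAs (Finite (ULift.{u + 1} (ZMod m)))
  let S : Scheme.{u} := Spec (CommRingCat.of k)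
  have hVS : IsAffineHom f := inferInstance
  obtain ⟨N, a, ha, haw⟩ := Groth.Agent.Etbc.H215.AffEmb.exists_closedImmersion f
  let A : Scheme.{u} := 𝔸(ULift.{u} (Fin N); S)
  let fA : A ⟶ S := 𝔸(ULift.{u} (Fin N); S) ↘ S
  let P : Scheme.{u} := IterP1.P S N
  have hNP : IsNoetherian P := Groth.Agent.Sga4h.BidRed538Geo.isNoetherian_P k N
  have hA : IsAffine A := isAffine_of_isAffineHom fA
  have hNA : IsNoetherian A := Groth.Agent.CurvesA.ClosedPtSep.isNoetherian fA
  obtain ⟨U, rfl, -⟩ := K482.Shriek.exists_opens a W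
  have hcfp : LocallyOfFinitePresentation a := by
    rw [LocallyOfFinitePresentation.iff_locallyOfFiniteType]
    infer_instance
  let G' : EtModW.Mod (Lam.{u} m) A := (EtModW.push (Lam.{u} m) a).obj G
  have hG' : EtModW.IsConstructible (Lam.{u} m) G' := by
    rw [Etcore.LFinite.isConstructible_iff_ab]
    exact Groth.Agent.EtpbcA.StrataGlob.isConstructible_of_iso ((pushIso (Lam.{u} m) a).app G).symm
      (Groth.Agent.S0137.result a _ ((Etcore.LFinite.isConstructible_iff_ab G).1 hG))
  have hD' : DepthOn ((EtModD.forgetToAb (Lam.{u} m) A).obj G') U n := by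
    refine ⟨fun v hv d hd => H134.DepthAt.DepthAtGE.of_iso ((pushIso (Lam.{u} m) a).app G).symm ?_⟩
    refine H134.DepthPush.depthAtGE_push a _ v (n - d) fun w hw => ?_
    subst hw
    refine hD.out w hv d ?_
    rw [← hd]
    have hl : LocallyOfFiniteType (a ≫ fA) := inferInstance
    exact H134.DimCl.dim_closure_preimmersion fA a w
  have h1 := VanA.hypVanish hm N n U G' hG' hD'
  obtain ⟨e⟩ := K482.Shriek.nonempty_RshriekPlus (Lam.{u} m) c a (IterP1.aff S N) (IterP1.toBase S N)
    (by rw [IterP1.aff_toBase]; exact haw) m hm.pos (H134.Glue.lam_cast_eq_zero m)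
  obtain ⟨e'⟩ := K482.Shriek.nonempty_push_openPush (Lam.{u} m) (a ⁻¹ᵁ U).ι a (a ∣_ U) U.ι
    (isPullback_morphismRestrict a U).flip G
  refine K555.DescVan.hypVanish_of_iso ?_ h1
  exact ((e.app _) ≪≫ (EtDl.extZeroPlus (Lam.{u} m) (IterP1.aff S N) ⋙
    EtDl.pushPlus (Lam.{u} m) (IterP1.toBase S N)).mapIso e').symm

end K552.VanL
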